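import Groth.Prelude.Def_W4c4lgringredgrpLG
import Mathlib

/-!
# Local-global principle for modules over a finite algebra over an LG-ring (helper19)
-/

set_option autoImplicit false

namespace Groth.Agent.Helper19.LGAz

universe u v w

open Module

section LG

variable {R : Type u} [CommRing R]

/-- LG condition for polynomials in variables indexed by an arbitrary finite type -/
theorem lg_fintype (hR : LGRing.IsLGRing R) {σ : Type} [Fintype σ] (f : MvPolynomial σ R)
    (h : ∀ (m : Ideal R) [m.IsMaximal], ∃ s : σ → R ⧸ m, IsUnit (MvPolynomial.aeval s f)) :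
    ∃ s : σ → R, IsUnit (MvPolynomial.aeval s f) := by
  classical
  let e : σ ≃ Fin (Fintype.card σ) := Fintype.equivFin σ
  have h' : ∀ (m : Ideal R) [m.IsMaximal],
      LGRing.RepresentsUnit (MvPolynomial.rename e f) (R ⧸ m) := by
    intro m hm
    obtain ⟨s, hs⟩ := h m
    refine ⟨s ∘ e.symm, ?_⟩
    rw [MvPolynomial.aeval_rename]
    have : (s ∘ e.symm) ∘ e = s := by funext x; simp
    rw [this]; exact hs
  obtain ⟨s, hs⟩ := hR _ _ h'
  refine ⟨s ∘ e, ?_⟩
  rw [MvPolynomial.aeval_rename] at hs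
  exact hs

theorem aeval_mk_eq {σ : Type} (m : Ideal R) (s : σ → R) (f : MvPolynomial σ R) :
    MvPolynomial.aeval (fun k => Ideal.Quotient.mk m (s k)) f =
      Ideal.Quotient.mk m (MvPolynomial.eval s f) := by
  rw [MvPolynomial.aeval_def, ← MvPolynomial.eval₂_id, MvPolynomial.eval₂_comp_left
    (Ideal.Quotient.mk m)]
  rfl

theorem coord_mem {N : Type w} [AddCommGroup N] [Module R N] {e : ℕ}
    (ι : N →ₗ[R] (Fin e → R)) (m : Ideal R) {z : N} (hz : z ∈ m • (⊤ : Submodule R N))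
    (a : Fin e) : ι z a ∈ m := by
  refine Submodule.smul_induction_on hz (fun r hr y _ => ?_) (fun y z hy hz => ?_)
  · rw [map_smul, Pi.smul_apply, smul_eq_mul]; exact m.mul_mem_right _ hr
  · rw [map_add, Pi.add_apply]; exact m.add_mem hy hz

theorem lemmaQ {e : ℕ} {N : Type w} [AddCommGroup N] [Module R N]
    (π : (Fin e → R) →ₗ[R] N) (ι : N →ₗ[R] (Fin e → R)) (hπι : π ∘ₗ ι = LinearMap.id)
    {κ κ' : Type} [Fintype κ] [Fintype κ'] (L : κ → κ' → (N →ₗ[R] N)) :
    ∃ f : MvPolynomial (κ ⊕ κ') R, ∀ s : κ ⊕ κ' → R,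
      (IsUnit (MvPolynomial.eval s f) →
        Function.Bijective (∑ i, ∑ j, (s (Sum.inl i) * s (Sum.inr j)) • L i j : N →ₗ[R] N)) ∧
      (∀ m : Ideal R,
        (∀ x, (∑ i, ∑ j, (s (Sum.inl i) * s (Sum.inr j)) • L i j : N →ₗ[R] N) x - x ∈
          m • (⊤ : Submodule R N)) → MvPolynomial.eval s f - 1 ∈ m) := by
  classical
  have hπι' : ∀ x, π (ι x) = x := fun x => LinearMap.congr_fun hπι x
  let B : κ → κ' → Matrix (Fin e) (Fin e) R := fun i j => LinearMap.toMatrix' (ι ∘ₗ L i j ∘ₗ π)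
  let B₀ : Matrix (Fin e) (Fin e) R := 1 - LinearMap.toMatrix' (ι ∘ₗ π)
  let Mp : Matrix (Fin e) (Fin e) (MvPolynomial (κ ⊕ κ') R) :=
    ∑ i, ∑ j, ((MvPolynomial.X (Sum.inl i) * MvPolynomial.X (Sum.inr j) :
      MvPolynomial (κ ⊕ κ') R)) • (B i j).map MvPolynomial.C + B₀.map MvPolynomial.C
  refine ⟨Mp.det, fun s => ?_⟩
  set Ls : N →ₗ[R] N := ∑ i, ∑ j, (s (Sum.inl i) * s (Sum.inr j)) • L i j with hLs
  let T : Matrix (Fin e) (Fin e) R := ∑ i, ∑ j, (s (Sum.inl i) * s (Sum.inr j)) • B i j + B₀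
  have hev : MvPolynomial.eval s Mp.det = T.det := by
    rw [RingHom.map_det]
    congr 1
    ext a b
    simp only [Mp, T, RingHom.mapMatrix_apply, Matrix.map_apply, Matrix.add_apply,
      Matrix.sum_apply, Matrix.smul_apply, map_add, map_sum, smul_eq_mul, map_mul,
      MvPolynomial.eval_X, MvPolynomial.eval_C]
  have hcomp : ∑ i, ∑ j, (s (Sum.inl i) * s (Sum.inr j)) • (ι ∘ₗ L i j ∘ₗ π) =
      ι ∘ₗ Ls ∘ₗ π := by
    refine LinearMap.ext fun v => ?_
    simp only [hLs, LinearMap.sum_apply, LinearMap.smul_apply, LinearMap.comp_apply, map_sum,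
      map_smul]
  have hT : Matrix.toLin' T = ι ∘ₗ Ls ∘ₗ π + (LinearMap.id - ι ∘ₗ π) := by
    simp only [T, B, B₀, map_add, map_sum, map_smul, map_sub, Matrix.toLin'_toMatrix',
      Matrix.toLin'_one]
    rw [hcomp]
  have hTapp : ∀ v, Matrix.toLin' T v = ι (Ls (π v)) + (v - ι (π v)) := fun v => by
    rw [hT]; rfl
  constructor
  · intro hu
    rw [hev] at hu
    have hbij : Function.Bijective (Matrix.toLin' T) := by
      have h0 := (T.toLinearEquiv' (T.invertibleOfIsUnitDet hu)).bijective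
      have h1 : (Matrix.toLin' T : (Fin e → R) → (Fin e → R)) =
          ⇑(T.toLinearEquiv' (T.invertibleOfIsUnitDet hu)) := by
        rw [← Matrix.toLinearEquiv'_apply T (T.invertibleOfIsUnitDet hu)]; rfl
      rw [h1]; exact h0
    constructor
    · intro x y hxy
      have h1 : Matrix.toLin' T (ι x) = Matrix.toLin' T (ι y) := by
        rw [hTapp, hTapp, hπι', hπι', hxy]
        simp
      have h2 := hbij.1 h1
      rw [← hπι' x, ← hπι' y, h2]
    · intro n
      obtain ⟨v, hv⟩ := hbij.2 (ι n)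
      refine ⟨π v, ?_⟩
      have h1 := congrArg π hv
      rw [hTapp] at h1
      simp only [map_add, map_sub, hπι', sub_self, add_zero] at h1
      exact h1
  · intro m hm
    rw [hev]
    have hmap : (Ideal.Quotient.mk m).mapMatrix T = 1 := by
      ext a b
      rw [RingHom.mapMatrix_apply, Matrix.map_apply, Matrix.one_apply]
      have hTab : T a b = (Matrix.toLin' T) (Pi.single b 1) a := by
        rw [← LinearMap.toMatrix'_apply, LinearMap.toMatrix'_toLin']
      rw [hTab, hTapp]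
      set eb : Fin e → R := Pi.single b 1 with heb
      have hz := coord_mem ι m (hm (π eb)) a
      rw [map_sub, Pi.sub_apply] at hz
      have h3 : (ι (Ls (π eb)) + (eb - ι (π eb))) a =
          eb a + (ι (Ls (π eb)) a - ι (π eb) a) := by
        simp only [Pi.add_apply, Pi.sub_apply]; ring
      rw [h3, map_add, Ideal.Quotient.eq_zero_iff_mem.mpr hz, add_zero]
      by_cases hab : a = b <;> simp [heb, hab, Pi.single_apply]
    have h4 : Ideal.Quotient.mk m T.det = 1 := by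
      rw [RingHom.map_det, hmap, Matrix.det_one]
    rw [← Ideal.Quotient.eq_zero_iff_mem, map_sub, h4, map_one, sub_self]

end LG

section Hom

variable {R : Type u} [CommRing R] {Λ : Type v} [Ring Λ] [Algebra R Λ]

theorem exists_hom_family (M N : Type w) [AddCommGroup M] [Module Λ M] [Module.Finite Λ M]
    [Module.Projective Λ M] [AddCommGroup N] [Module Λ N] [Module R N] [IsScalarTower R Λ N]
    [Module.Finite R N] :
    ∃ (κ : Type) (_ : Fintype κ) (h : κ → (M →ₗ[Λ] N)),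
      ∀ φ : M →ₗ[Λ] N, ∃ r : κ → R, ∀ x, φ x = ∑ i, r i • h i x := by
  classical
  obtain ⟨n, π, ι, -, -, hπι⟩ := Module.Finite.exists_comp_eq_id_of_projective Λ M
  obtain ⟨d, p, hp⟩ := Module.Finite.exists_fin' R N
  let u : Fin d → N := fun t => p (fun j => if t = j then (1 : R) else 0)
  refine ⟨Fin n × Fin d, inferInstance,
    fun st => (LinearMap.toSpanSingleton Λ N (u st.2)) ∘ₗ (LinearMap.proj st.1) ∘ₗ ι,
    fun φ => ?_⟩
  have hc : ∀ s : Fin n, ∃ c : Fin d → R,
      φ (π (fun j => if s = j then (1 : Λ) else 0)) = p c := fun s => (hp _).imp fun c hc => hc.symm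
  choose c hc using hc
  refine ⟨fun st => c st.1 st.2, fun x => ?_⟩
  have hx : x = π (ι x) := (LinearMap.congr_fun hπι x).symm
  have h1 : φ (π (ι x)) = ∑ s, (ι x s) • φ (π (fun j => if s = j then (1 : Λ) else 0)) := by
    have := LinearMap.pi_apply_eq_sum_univ (φ ∘ₗ π) (ι x)
    simpa only [LinearMap.comp_apply] using this
  have h2 : ∀ s, p (c s) = ∑ t, c s t • u t := fun s =>
    LinearMap.pi_apply_eq_sum_univ p (c s)
  conv_lhs => rw [hx, h1]
  rw [Fintype.sum_prod_type]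
  refine Finset.sum_congr rfl fun s _ => ?_
  rw [hc s, h2 s, Finset.smul_sum]
  refine Finset.sum_congr rfl fun t _ => ?_
  simp only [LinearMap.comp_apply, LinearMap.proj_apply, LinearMap.toSpanSingleton_apply]
  rw [smul_comm]

theorem key_identity {M N : Type w} [AddCommGroup M] [Module Λ M] [Module R M]
    [IsScalarTower R Λ M] [AddCommGroup N] [Module Λ N] [Module R N] [IsScalarTower R Λ N]
    {κ κ' : Type} [Fintype κ] [Fintype κ'] (g : κ → (M →ₗ[Λ] N)) (g' : κ' → (N →ₗ[Λ] M))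
    (r : κ → R) (r' : κ' → R) (x : N) :
    (∑ i, ∑ j, (r i * r' j) • ((g i).restrictScalars R ∘ₗ (g' j).restrictScalars R) :
      N →ₗ[R] N) x = ∑ i, r i • g i (∑ j, r' j • g' j x) := by
  simp only [LinearMap.sum_apply, LinearMap.smul_apply, LinearMap.comp_apply,
    LinearMap.restrictScalars_apply, map_sum, LinearMap.map_smul_of_tower, Finset.smul_sum,
    smul_smul]

theorem key_identity' {M N : Type w} [AddCommGroup M] [Module Λ M] [Module R M]
    [IsScalarTower R Λ M] [AddCommGroup N] [Module Λ N] [Module R N] [IsScalarTower R Λ N]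
    {κ κ' : Type} [Fintype κ] [Fintype κ'] (g : κ → (M →ₗ[Λ] N)) (g' : κ' → (N →ₗ[Λ] M))
    (r : κ → R) (r' : κ' → R) (x : M) :
    (∑ i, ∑ j, (r i * r' j) • ((g' j).restrictScalars R ∘ₗ (g i).restrictScalars R) :
      M →ₗ[R] M) x = ∑ j, r' j • g' j (∑ i, r i • g i x) := by
  simp only [LinearMap.sum_apply, LinearMap.smul_apply, LinearMap.comp_apply,
    LinearMap.restrictScalars_apply, map_sum, LinearMap.map_smul_of_tower, Finset.smul_sum,
    smul_smul]
  rw [Finset.sum_comm]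
  refine Finset.sum_congr rfl fun j _ => Finset.sum_congr rfl fun i _ => ?_
  rw [mul_comm]

end Hom

section Main

variable {R : Type u} [CommRing R] {Λ : Type v} [Ring Λ] [Algebra R Λ]

theorem exists_surjective_of_residue (hR : LGRing.IsLGRing R) (M N : Type w)
    [AddCommGroup M] [Module Λ M] [Module R M] [IsScalarTower R Λ M] [Module.Finite Λ M]
    [Module.Projective Λ M] [Module.Finite R M]
    [AddCommGroup N] [Module Λ N] [Module R N] [IsScalarTower R Λ N] [Module.Finite Λ N]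
    [Module.Projective Λ N] [Module.Finite R N] [Module.Projective R N]
    (h : ∀ (m : Ideal R) [m.IsMaximal], ∃ (φ : M →ₗ[Λ] N) (ψ : N →ₗ[Λ] M),
      ∀ x : N, φ (ψ x) - x ∈ m • (⊤ : Submodule R N)) :
    ∃ φ : M →ₗ[Λ] N, Function.Surjective φ := by
  classical
  obtain ⟨κ, _, g, hg⟩ := exists_hom_family (R := R) (Λ := Λ) M N
  obtain ⟨κ', _, g', hg'⟩ := exists_hom_family (R := R) (Λ := Λ) N M
  obtain ⟨e, π, ι, -, -, hπι⟩ := Module.Finite.exists_comp_eq_id_of_projective R N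
  let L : κ → κ' → (N →ₗ[R] N) := fun i j =>
    (g i).restrictScalars R ∘ₗ (g' j).restrictScalars R
  obtain ⟨f, hf⟩ := lemmaQ π ι hπι L
  have key : ∀ (s : κ ⊕ κ' → R) (x : N),
      (∑ i, ∑ j, (s (Sum.inl i) * s (Sum.inr j)) • L i j : N →ₗ[R] N) x =
        ∑ i, s (Sum.inl i) • g i (∑ j, s (Sum.inr j) • g' j x) := fun s x =>
    key_identity g g' (fun i => s (Sum.inl i)) (fun j => s (Sum.inr j)) x
  obtain ⟨s, hs⟩ := lg_fintype hR f (fun m hm => by
    obtain ⟨φ, ψ, hφψ⟩ := h m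
    obtain ⟨r, hr⟩ := hg φ
    obtain ⟨r', hr'⟩ := hg' ψ
    refine ⟨fun k => Ideal.Quotient.mk m (Sum.elim r r' k), ?_⟩
    have h1 := (hf (Sum.elim r r')).2 m (fun x => by
      rw [key]
      simp only [Sum.elim_inl, Sum.elim_inr]
      rw [← hr' x, ← hr]
      exact hφψ x)
    rw [aeval_mk_eq]
    have h2 : Ideal.Quotient.mk m (MvPolynomial.eval (Sum.elim r r') f) = 1 := by
      rw [← sub_eq_zero, ← map_one (Ideal.Quotient.mk m), ← map_sub]
      exact Ideal.Quotient.eq_zero_iff_mem.mpr h1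
    rw [h2]; exact isUnit_one)
  rw [MvPolynomial.aeval_eq_eval] at hs
  have hbij := (hf s).1 hs
  refine ⟨∑ i, s (Sum.inl i) • g i, fun n => ?_⟩
  obtain ⟨x, hx⟩ := hbij.2 n
  rw [key] at hx
  refine ⟨∑ j, s (Sum.inr j) • g' j x, ?_⟩
  rw [LinearMap.sum_apply]
  simpa only [LinearMap.smul_apply] using hx

theorem nonempty_equiv_of_residue (hR : LGRing.IsLGRing R) (M N : Type w)
    [AddCommGroup M] [Module Λ M] [Module R M] [IsScalarTower R Λ M] [Module.Finite Λ M]
    [Module.Projective Λ M] [Module.Finite R M] [Module.Projective R M]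
    [AddCommGroup N] [Module Λ N] [Module R N] [IsScalarTower R Λ N] [Module.Finite Λ N]
    [Module.Projective Λ N] [Module.Finite R N] [Module.Projective R N]
    (h : ∀ (m : Ideal R) [m.IsMaximal], ∃ (φ : M →ₗ[Λ] N) (ψ : N →ₗ[Λ] M),
      (∀ x : N, φ (ψ x) - x ∈ m • (⊤ : Submodule R N)) ∧
      (∀ x : M, ψ (φ x) - x ∈ m • (⊤ : Submodule R M))) :
    Nonempty (M ≃ₗ[Λ] N) := by
  classical
  obtain ⟨κ, _, g, hg⟩ := exists_hom_family (R := R) (Λ := Λ) M N
  obtain ⟨κ', _, g', hg'⟩ := exists_hom_family (R := R) (Λ := Λ) N M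
  obtain ⟨e, π, ι, -, -, hπι⟩ := Module.Finite.exists_comp_eq_id_of_projective R N
  obtain ⟨e', π', ι', -, -, hπι'⟩ := Module.Finite.exists_comp_eq_id_of_projective R M
  let L : κ → κ' → (N →ₗ[R] N) := fun i j =>
    (g i).restrictScalars R ∘ₗ (g' j).restrictScalars R
  let L' : κ → κ' → (M →ₗ[R] M) := fun i j =>
    (g' j).restrictScalars R ∘ₗ (g i).restrictScalars R
  obtain ⟨f, hf⟩ := lemmaQ π ι hπι L
  obtain ⟨f', hf'⟩ := lemmaQ π' ι' hπι' L'
  have key : ∀ (s : κ ⊕ κ' → R) (x : N),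
      (∑ i, ∑ j, (s (Sum.inl i) * s (Sum.inr j)) • L i j : N →ₗ[R] N) x =
        ∑ i, s (Sum.inl i) • g i (∑ j, s (Sum.inr j) • g' j x) := fun s x =>
    key_identity g g' (fun i => s (Sum.inl i)) (fun j => s (Sum.inr j)) x
  have key' : ∀ (s : κ ⊕ κ' → R) (x : M),
      (∑ i, ∑ j, (s (Sum.inl i) * s (Sum.inr j)) • L' i j : M →ₗ[R] M) x =
        ∑ j, s (Sum.inr j) • g' j (∑ i, s (Sum.inl i) • g i x) := fun s x =>
    key_identity' g g' (fun i => s (Sum.inl i)) (fun j => s (Sum.inr j)) x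
  obtain ⟨s, hs⟩ := lg_fintype hR (f * f') (fun m hm => by
    obtain ⟨φ, ψ, hφψ, hψφ⟩ := h m
    obtain ⟨r, hr⟩ := hg φ
    obtain ⟨r', hr'⟩ := hg' ψ
    refine ⟨fun k => Ideal.Quotient.mk m (Sum.elim r r' k), ?_⟩
    have h1 := (hf (Sum.elim r r')).2 m (fun x => by
      rw [key]
      simp only [Sum.elim_inl, Sum.elim_inr]
      rw [← hr' x, ← hr]
      exact hφψ x)
    have h1' := (hf' (Sum.elim r r')).2 m (fun x => by
      rw [key']
      simp only [Sum.elim_inl, Sum.elim_inr]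
      rw [← hr x, ← hr']
      exact hψφ x)
    rw [aeval_mk_eq, map_mul, map_mul]
    have h2 : Ideal.Quotient.mk m (MvPolynomial.eval (Sum.elim r r') f) = 1 := by
      rw [← sub_eq_zero, ← map_one (Ideal.Quotient.mk m), ← map_sub]
      exact Ideal.Quotient.eq_zero_iff_mem.mpr h1
    have h2' : Ideal.Quotient.mk m (MvPolynomial.eval (Sum.elim r r') f') = 1 := by
      rw [← sub_eq_zero, ← map_one (Ideal.Quotient.mk m), ← map_sub]
      exact Ideal.Quotient.eq_zero_iff_mem.mpr h1'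
    rw [h2, h2', one_mul]; exact isUnit_one)
  rw [MvPolynomial.aeval_eq_eval, map_mul, IsUnit.mul_iff] at hs
  have hbij := (hf s).1 hs.1
  have hbij' := (hf' s).1 hs.2
  let φ : M →ₗ[Λ] N := ∑ i, s (Sum.inl i) • g i
  let ψ : N →ₗ[Λ] M := ∑ j, s (Sum.inr j) • g' j
  have hφ : ∀ x, φ x = ∑ i, s (Sum.inl i) • g i x := fun x => by
    simp only [φ, LinearMap.sum_apply, LinearMap.smul_apply]
  have hψ : ∀ x, ψ x = ∑ j, s (Sum.inr j) • g' j x := fun x => by
    simp only [ψ, LinearMap.sum_apply, LinearMap.smul_apply]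
  refine ⟨LinearEquiv.ofBijective φ ⟨?_, ?_⟩⟩
  · intro x y hxy
    apply hbij'.1
    rw [key', key', ← hφ, ← hφ, hxy]
  · intro n
    obtain ⟨x, hx⟩ := hbij.2 n
    rw [key, ← hψ, ← hφ] at hx
    exact ⟨ψ x, hx⟩

end Main

end Groth.Agent.Helper19.LGAz
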