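import Groth.Agent.Lib.Helper19.LGAz.Split
import Groth.Agent.Lib.Helper19.LGAz.Principle

/-!
# Azumaya algebras: fibres are simple rings; modules over Azumaya algebras over LG-rings (helper19)
-/

set_option autoImplicit false

namespace Groth.Agent.Helper19.LGAz

universe u v w

open Module

section General

variable {R : Type u} [CommRing R] {Λ : Type v} [Ring Λ] [Algebra R Λ]

/-- criterion for `Λ ⧸ J` to be a simple ring. -/
theorem isSimpleRing_quot_of (J : Ideal Λ) [J.IsTwoSided] (hJ : J ≠ ⊤)
    (h : ∀ I : Ideal Λ, I.IsTwoSided → J ≤ I → I = J ∨ I = ⊤) : IsSimpleRing (Λ ⧸ J) := by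
  rw [isSimpleRing_iff_isTwoSided_imp]
  refine ⟨Submodule.Quotient.nontrivial_iff.mpr hJ, fun I hI => ?_⟩
  have hle : J ≤ I.comap (Ideal.Quotient.mk J) := by
    intro j hj
    rw [Ideal.mem_comap, Ideal.Quotient.eq_zero_iff_mem.mpr hj]
    exact I.zero_mem
  rcases h (I.comap (Ideal.Quotient.mk J)) inferInstance hle with h1 | h1
  · left
    rw [eq_bot_iff]
    intro x hx
    obtain ⟨y, rfl⟩ := Ideal.Quotient.mk_surjective x
    have : y ∈ I.comap (Ideal.Quotient.mk J) := hx
    rw [h1] at this
    rw [Ideal.mem_bot]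
    exact Ideal.Quotient.eq_zero_iff_mem.mpr this
  · right
    rw [Ideal.eq_top_iff_one]
    have : (1 : Λ) ∈ I.comap (Ideal.Quotient.mk J) := by rw [h1]; exact Submodule.mem_top
    simpa using this

/-- `m M ≠ M` for a finite faithful module and a proper ideal. -/
theorem smul_top_ne_top (m : Ideal R) (hm : m ≠ ⊤) (M : Type w) [AddCommGroup M] [Module R M]
    [Module.Finite R M] [FaithfulSMul R M] : m • (⊤ : Submodule R M) ≠ ⊤ := by
  intro htop
  obtain ⟨r, hr1, hr2⟩ := Submodule.exists_sub_one_mem_and_smul_eq_zero_of_fg_of_le_smul m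
    (⊤ : Submodule R M) Module.Finite.fg_top (le_of_eq htop.symm)
  have hr0 : r = 0 := by
    apply FaithfulSMul.eq_of_smul_eq_smul (α := M)
    intro x
    rw [hr2 x Submodule.mem_top, zero_smul]
  rw [hr0, zero_sub] at hr1
  have : (1 : R) ∈ m := by simpa using m.neg_mem hr1
  exact hm ((Ideal.eq_top_iff_one m).2 this)

theorem mSub_ne_top (m : Ideal R) (hm : m ≠ ⊤) [Module.Finite R Λ] [FaithfulSMul R Λ] :
    (mSub R Λ m Λ : Ideal Λ) ≠ ⊤ := by
  intro h
  apply smul_top_ne_top m hm Λ
  rw [← mSub_restrictScalars (Λ := Λ) m Λ, h]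
  rfl

/-- restriction of scalars preserves finite projectivity along a finite projective algebra. -/
theorem projective_of_tower [Module.Projective R Λ] (M : Type w) [AddCommGroup M] [Module Λ M]
    [Module R M] [IsScalarTower R Λ M] [Module.Finite Λ M] [Module.Projective Λ M] :
    Module.Projective R M := by
  classical
  obtain ⟨n, π, ι, -, -, hπι⟩ := Module.Finite.exists_comp_eq_id_of_projective Λ M
  haveI : Module.Projective R (Fin n → Λ) :=
    Module.Projective.of_equiv' (DFinsupp.linearEquivFunOnFintype (R := R) (ι := Fin n)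
      (M := fun _ => Λ))
  have h : ∀ x, (π.restrictScalars R) ((ι.restrictScalars R) x) = x :=
    fun x => LinearMap.congr_fun hπι x
  exact Module.Projective.of_split (ι.restrictScalars R) (π.restrictScalars R) (LinearMap.ext h)

end General

section Azumaya

variable {R : Type u} [CommRing R] {A : Type v} [Ring A] [Algebra R A] [IsAzumaya R A]

/-- two-sided ideals of an Azumaya algebra are stable under all `R`-linear endomorphisms. -/
theorem end_stable (I : Ideal A) [I.IsTwoSided] (θ : Module.End R A) {x : A} (hx : x ∈ I) :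
    θ x ∈ I := by
  obtain ⟨t, rfl⟩ := (IsAzumaya.bij (R := R) (A := A)).2 θ
  induction t using TensorProduct.induction_on with
  | zero => simp
  | tmul a b =>
    rw [AlgHom.mulLeftRight_apply]
    exact I.mul_mem_right _ (I.mul_mem_left _ hx)
  | add t₁ t₂ h₁ h₂ =>
    rw [map_add, LinearMap.add_apply]
    exact I.add_mem h₁ h₂

/-- the ideal of scalars `r` with `r A ⊆ I`. -/
def colonIdeal (R : Type u) [CommRing R] {A : Type v} [Ring A] [Algebra R A] (I : Ideal A) :
    Ideal R where
  carrier := {r | ∀ y : A, r • y ∈ I}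
  add_mem' := fun {a b} ha hb y => by rw [add_smul]; exact I.add_mem (ha y) (hb y)
  zero_mem' := fun y => by rw [zero_smul]; exact I.zero_mem
  smul_mem' := fun c r hr y => by
    rw [smul_eq_mul, mul_comm, mul_smul]
    exact hr (c • y)

theorem mem_colonIdeal {R : Type u} [CommRing R] {A : Type v} [Ring A] [Algebra R A]
    (I : Ideal A) (r : R) : r ∈ colonIdeal R I ↔ ∀ y : A, r • y ∈ I := Iff.rfl

theorem azumaya_ideal (m : Ideal R) [hm : m.IsMaximal] (I : Ideal A) [I.IsTwoSided]
    (hJ : (mSub R A m A : Ideal A) ≤ I) : I = (mSub R A m A : Ideal A) ∨ I = ⊤ := by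
  classical
  have hle : m ≤ colonIdeal R I := fun r hr => by
    rw [mem_colonIdeal]
    intro y
    have h0 : r • y ∈ m • (⊤ : Submodule R A) := Submodule.smul_mem_smul hr Submodule.mem_top
    exact hJ (mem_mSub.mpr h0)
  by_cases htop : colonIdeal R I = ⊤
  · right
    have h1 : (1 : R) ∈ colonIdeal R I := by rw [htop]; exact Submodule.mem_top
    have h2 := (mem_colonIdeal I 1).mp h1 1
    rw [one_smul] at h2
    exact (Ideal.eq_top_iff_one I).mpr h2
  · left
    have heq : m = colonIdeal R I := hm.eq_of_le htop hle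
    refine le_antisymm ?_ hJ
    intro x hx
    obtain ⟨n, π, ι, -, -, hπι⟩ := Module.Finite.exists_comp_eq_id_of_projective R A
    have hxe : x = ∑ i, ι x i • π (fun j => if i = j then (1 : R) else 0) := by
      have h1 : π (ι x) = x := LinearMap.congr_fun hπι x
      rw [← LinearMap.pi_apply_eq_sum_univ π (ι x), h1]
    rw [mem_mSub, hxe]
    refine Submodule.sum_mem (m • (⊤ : Submodule R A)) fun i _ => ?_
    have hi : ι x i ∈ m := by
      rw [heq, mem_colonIdeal]
      intro y
      have := end_stable (R := R) I
        ((LinearMap.toSpanSingleton R A y) ∘ₗ (LinearMap.proj i) ∘ₗ ι) hx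
      simpa using this
    exact Submodule.smul_mem_smul hi Submodule.mem_top

theorem isSimpleRing_fibre_of_azumaya (m : Ideal R) [hm : m.IsMaximal] :
    IsSimpleRing (A ⧸ (mSub R A m A : Ideal A)) :=
  isSimpleRing_quot_of _ (mSub_ne_top m hm.ne_top) fun I _ hI => azumaya_ideal m I hI

end Azumaya

section Modules

variable {R : Type u} [CommRing R] {A : Type v} [Ring A] [Algebra R A] [IsAzumaya R A]

theorem exists_surjective_of_rank_le (hR : LGRing.IsLGRing R)
    (M N : Type w) [AddCommGroup M] [Module A M] [Module R M] [IsScalarTower R A M]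
    [Module.Finite A M] [Module.Projective A M]
    [AddCommGroup N] [Module A N] [Module R N] [IsScalarTower R A N] [Module.Finite A N]
    [Module.Projective A N]
    (h : ∀ (m : Ideal R) [hm : m.IsMaximal],
      Module.rankAtStalk N ⟨m, hm.isPrime⟩ ≤ Module.rankAtStalk M ⟨m, hm.isPrime⟩) :
    ∃ f : M →ₗ[A] N, Function.Surjective f := by
  haveI : Module.Finite R M := Module.Finite.trans A M
  haveI : Module.Finite R N := Module.Finite.trans A N
  haveI : Module.Projective R M := projective_of_tower (Λ := A) M
  haveI : Module.Projective R N := projective_of_tower (Λ := A) N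
  exact exists_surjective_of_residue hR M N fun m hm =>
    exists_residual_split m (isSimpleRing_fibre_of_azumaya m) M N (h m)

theorem nonempty_equiv_of_rank_eq (hR : LGRing.IsLGRing R)
    (M N : Type w) [AddCommGroup M] [Module A M] [Module R M] [IsScalarTower R A M]
    [Module.Finite A M] [Module.Projective A M]
    [AddCommGroup N] [Module A N] [Module R N] [IsScalarTower R A N] [Module.Finite A N]
    [Module.Projective A N]
    (h : ∀ (m : Ideal R) [hm : m.IsMaximal],
      Module.rankAtStalk N ⟨m, hm.isPrime⟩ = Module.rankAtStalk M ⟨m, hm.isPrime⟩) :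
    Nonempty (M ≃ₗ[A] N) := by
  haveI : Module.Finite R M := Module.Finite.trans A M
  haveI : Module.Finite R N := Module.Finite.trans A N
  haveI : Module.Projective R M := projective_of_tower (Λ := A) M
  haveI : Module.Projective R N := projective_of_tower (Λ := A) N
  exact nonempty_equiv_of_residue hR M N fun m hm =>
    exists_residual_iso m (isSimpleRing_fibre_of_azumaya m) M N (h m)

end Modules

end Groth.Agent.Helper19.LGAz
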