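import Groth.Agent.Lib.Helper19.LGAz.Azu

/-!
# Corners of algebras and Morita-type comparison over LG-rings (helper19)

A *corner* of an `R`-algebra `Λ` with values in `A` is an idempotent `ε ∈ Λ` together with an
identification `ε Λ ε ≅ A`, encoded by a multiplicative linear map `j : A → Λ` and a linear
retraction `χ : Λ → A` with `ε w ε = j (χ w)`.
-/

set_option autoImplicit false

namespace Groth.Agent.Helper19.LGAz

universe u v v₁ v₂ w

open Module

section Corner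

variable (R : Type u) [CommRing R] (Λ : Type v₁) [Ring Λ] [Algebra R Λ]
  (A : Type v) [Ring A] [Algebra R A]

/-- corner data. -/
structure Corner where
  j : A →ₗ[R] Λ
  χ : Λ →ₗ[R] A
  j_mul : ∀ a b, j (a * b) = j a * j b
  χ_j : ∀ a, χ (j a) = a
  corner : ∀ w, j 1 * w * j 1 = j (χ w)

variable {R Λ A}

namespace Corner

variable (c : Corner R Λ A)

/-- the idempotent of the corner. -/
def ε : Λ := c.j 1

theorem ε_mul_ε : c.ε * c.ε = c.ε := by rw [ε, ← c.j_mul, mul_one]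

theorem ε_j (a : A) : c.ε * c.j a = c.j a := by rw [ε, ← c.j_mul, one_mul]

theorem j_ε (a : A) : c.j a * c.ε = c.j a := by rw [ε, ← c.j_mul, mul_one]

theorem j_injective : Function.Injective c.j := fun a b h => by
  rw [← c.χ_j a, ← c.χ_j b, h]

theorem corner' (w : Λ) : c.ε * w * c.ε = c.j (c.χ w) := c.corner w

theorem χ_one : c.χ 1 = 1 := by
  apply c.j_injective
  rw [← c.corner, mul_one, ← c.j_mul, mul_one]

/-- the corner is full: `Λ ε Λ = Λ`. -/
def Full : Prop := ∃ (n : ℕ) (u v : Fin n → Λ), ∑ i, u i * c.ε * v i = 1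

/-- transport along an algebra isomorphism. -/
def transport {Λ' : Type v₂} [Ring Λ'] [Algebra R Λ'] (e : Λ ≃ₐ[R] Λ') (c' : Corner R Λ' A) :
    Corner R Λ A where
  j := e.symm.toLinearMap ∘ₗ c'.j
  χ := c'.χ ∘ₗ e.toLinearMap
  j_mul := fun a b => by
    simp only [LinearMap.comp_apply, AlgEquiv.toLinearMap_apply, c'.j_mul, map_mul]
  χ_j := fun a => by
    simp only [LinearMap.comp_apply, AlgEquiv.toLinearMap_apply, AlgEquiv.apply_symm_apply,
      c'.χ_j]
  corner := fun w => by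
    simp only [LinearMap.comp_apply, AlgEquiv.toLinearMap_apply]
    rw [← c'.corner, map_mul, map_mul, AlgEquiv.symm_apply_apply]

theorem transport_ε {Λ' : Type v₂} [Ring Λ'] [Algebra R Λ'] (e : Λ ≃ₐ[R] Λ')
    (c' : Corner R Λ' A) : (transport e c').ε = e.symm c'.ε := rfl

/-- the two-sided ideal of `A` cut out by a two-sided ideal of `Λ`. -/
def pullIdeal (𝔍 : Ideal Λ) : Ideal A where
  carrier := {a | c.j a ∈ 𝔍}
  add_mem' := fun {a b} ha hb => by
    change c.j (a + b) ∈ 𝔍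
    rw [map_add]; exact 𝔍.add_mem ha hb
  zero_mem' := by
    change c.j 0 ∈ 𝔍
    rw [map_zero]; exact 𝔍.zero_mem
  smul_mem' := fun x a ha => by
    change c.j (x * a) ∈ 𝔍
    rw [c.j_mul]; exact 𝔍.mul_mem_left _ ha

theorem mem_pullIdeal (𝔍 : Ideal Λ) (a : A) : a ∈ c.pullIdeal 𝔍 ↔ c.j a ∈ 𝔍 := Iff.rfl

theorem pullIdeal_isTwoSided (𝔍 : Ideal Λ) [𝔍.IsTwoSided] : (c.pullIdeal 𝔍).IsTwoSided := by
  constructor
  intro a b ha
  rw [mem_pullIdeal] at ha ⊢
  rw [c.j_mul]; exact 𝔍.mul_mem_right _ ha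

end Corner

theorem map_mem_smul_top {M N : Type*} [AddCommGroup M] [Module R M] [AddCommGroup N]
    [Module R N] (f : M →ₗ[R] N) (m : Ideal R) {x : M} (hx : x ∈ m • (⊤ : Submodule R M)) :
    f x ∈ m • (⊤ : Submodule R N) := by
  refine Submodule.smul_induction_on hx (fun r hr y _ => ?_) (fun y z hy hz => ?_)
  · rw [map_smul]; exact Submodule.smul_mem_smul hr Submodule.mem_top
  · rw [map_add]; exact Submodule.add_mem _ hy hz

/-- fibres of `Λ` are simple as soon as those of a full corner are. -/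
theorem corner_fibre (c : Corner R Λ A) (hfull : c.Full) (m : Ideal R)
    (hne : (mSub R A m A : Ideal A) ≠ ⊤)
    (hA : ∀ I : Ideal A, I.IsTwoSided → (mSub R A m A : Ideal A) ≤ I →
      I = (mSub R A m A : Ideal A) ∨ I = ⊤) :
    (mSub R Λ m Λ : Ideal Λ) ≠ ⊤ ∧ ∀ 𝔍 : Ideal Λ, 𝔍.IsTwoSided →
      (mSub R Λ m Λ : Ideal Λ) ≤ 𝔍 → 𝔍 = (mSub R Λ m Λ : Ideal Λ) ∨ 𝔍 = ⊤ := by
  constructor
  · intro htop
    apply hne
    have h1 : (1 : Λ) ∈ m • (⊤ : Submodule R Λ) := by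
      rw [← mem_mSub (Λ := Λ), htop]; exact Submodule.mem_top
    have h2 := map_mem_smul_top c.χ m h1
    rw [c.χ_one] at h2
    exact (Ideal.eq_top_iff_one _).mpr (mem_mSub.mpr h2)
  · intro 𝔍 h𝔍 hle
    haveI := c.pullIdeal_isTwoSided 𝔍
    have hle' : (mSub R A m A : Ideal A) ≤ c.pullIdeal 𝔍 := by
      intro a ha
      rw [Corner.mem_pullIdeal]
      apply hle
      exact mem_mSub.mpr (map_mem_smul_top c.j m (mem_mSub.mp ha))
    obtain ⟨n, u, v, huv⟩ := hfull
    rcases hA (c.pullIdeal 𝔍) inferInstance hle' with h1 | h1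
    · left
      refine le_antisymm ?_ hle
      intro z hz
      have hz1 : z = (∑ i, u i * c.ε * v i) * z * (∑ i, u i * c.ε * v i) := by
        rw [huv, one_mul, mul_one]
      rw [hz1, Finset.sum_mul, Finset.sum_mul]
      refine Submodule.sum_mem _ fun i _ => ?_
      rw [Finset.mul_sum]
      refine Submodule.sum_mem _ fun i' _ => ?_
      have h3 : u i * c.ε * v i * z * (u i' * c.ε * v i') =
          u i * (c.ε * (v i * z * u i') * c.ε) * v i' := by noncomm_ring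
      rw [h3, c.corner']
      have h4 : c.ε * (v i * z * u i') * c.ε ∈ 𝔍 :=
        𝔍.mul_mem_right _ (𝔍.mul_mem_left _ (𝔍.mul_mem_right _ (𝔍.mul_mem_left _ hz)))
      rw [c.corner', ← Corner.mem_pullIdeal, h1] at h4
      have h5 : c.j (c.χ (v i * z * u i')) ∈ (mSub R Λ m Λ : Ideal Λ) :=
        mem_mSub.mpr (map_mem_smul_top c.j m (mem_mSub.mp h4))
      exact Ideal.mul_mem_right _ _ (Ideal.mul_mem_left _ _ h5)
    · right
      have h2 : (1 : A) ∈ c.pullIdeal 𝔍 := by rw [h1]; exact Submodule.mem_top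
      rw [Corner.mem_pullIdeal] at h2
      rw [Ideal.eq_top_iff_one, ← huv]
      refine Submodule.sum_mem _ fun i _ => ?_
      exact 𝔍.mul_mem_right _ (𝔍.mul_mem_left _ h2)

end Corner

section Leps

variable {Λ : Type v₁} [Ring Λ]

/-- the left ideal `Λ ε`. -/
def Lε (ε : Λ) : Submodule Λ Λ := LinearMap.range (LinearMap.toSpanSingleton Λ Λ ε)

theorem mem_Lε {ε x : Λ} (hε : ε * ε = ε) : x ∈ Lε ε ↔ x * ε = x := by
  constructor
  · rintro ⟨y, rfl⟩
    simp only [LinearMap.toSpanSingleton_apply, smul_eq_mul, mul_assoc, hε]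
  · intro h
    exact ⟨x, by simpa only [LinearMap.toSpanSingleton_apply, smul_eq_mul] using h⟩

theorem ε_mem_Lε {ε : Λ} (hε : ε * ε = ε) : ε ∈ Lε ε := (mem_Lε hε).mpr hε

instance Lε_finite (ε : Λ) : Module.Finite Λ (Lε ε) := by
  unfold Lε; infer_instance

theorem Lε_projective {ε : Λ} (hε : ε * ε = ε) : Module.Projective Λ (Lε ε) := by
  refine Module.Projective.of_split (Lε ε).subtype
    (LinearMap.toSpanSingleton Λ Λ ε).rangeRestrict ?_
  refine LinearMap.ext fun x => Subtype.ext ?_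
  change (x : Λ) • ε = (x : Λ)
  rw [smul_eq_mul]; exact (mem_Lε hε).mp x.2

theorem exists_uv_of_equiv {ε ε' : Λ} (hε : ε * ε = ε) (hε' : ε' * ε' = ε')
    (T : Lε ε ≃ₗ[Λ] Lε ε') :
    ∃ u v : Λ, ε * u = u ∧ u * ε' = u ∧ ε' * v = v ∧ v * ε = v ∧ u * v = ε ∧ v * u = ε' := by
  let x₀ : Lε ε := ⟨ε, ε_mem_Lε hε⟩
  let y₀ : Lε ε' := ⟨ε', ε_mem_Lε hε'⟩
  have hu : ((T x₀ : Lε ε') : Λ) * ε' = (T x₀ : Λ) := (mem_Lε hε').mp (T x₀).2
  have hv : ((T.symm y₀ : Lε ε) : Λ) * ε = (T.symm y₀ : Λ) := (mem_Lε hε).mp (T.symm y₀).2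
  have hx₀ : ε • x₀ = x₀ := Subtype.ext (by
    rw [Submodule.coe_smul, smul_eq_mul]; exact hε)
  have hy₀ : ε' • y₀ = y₀ := Subtype.ext (by
    rw [Submodule.coe_smul, smul_eq_mul]; exact hε')
  refine ⟨(T x₀ : Λ), (T.symm y₀ : Λ), ?_, hu, ?_, hv, ?_, ?_⟩
  · have h2 : T (ε • x₀) = ε • T x₀ := T.map_smul ε x₀
    rw [hx₀] at h2
    have h3 := congrArg (fun z : Lε ε' => (z : Λ)) h2
    simp only [Submodule.coe_smul, smul_eq_mul] at h3
    exact h3.symm
  · have h2 : T.symm (ε' • y₀) = ε' • T.symm y₀ := T.symm.map_smul ε' y₀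
    rw [hy₀] at h2
    have h3 := congrArg (fun z : Lε ε => (z : Λ)) h2
    simp only [Submodule.coe_smul, smul_eq_mul] at h3
    exact h3.symm
  · have h1 : T x₀ = (T x₀ : Λ) • y₀ := Subtype.ext (by
      rw [Submodule.coe_smul, smul_eq_mul]; exact hu.symm)
    have h2 : T.symm (T x₀) = x₀ := T.symm_apply_apply x₀
    rw [h1, map_smul] at h2
    have h3 := congrArg (fun z : Lε ε => (z : Λ)) h2
    simp only [Submodule.coe_smul, smul_eq_mul] at h3
    exact h3
  · have h1 : T.symm y₀ = (T.symm y₀ : Λ) • x₀ := Subtype.ext (by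
      rw [Submodule.coe_smul, smul_eq_mul]; exact hv.symm)
    have h2 : T (T.symm y₀) = y₀ := T.apply_symm_apply y₀
    rw [h1, map_smul] at h2
    have h3 := congrArg (fun z : Lε ε' => (z : Λ)) h2
    simp only [Submodule.coe_smul, smul_eq_mul] at h3
    exact h3

end Leps

section Main

variable {R : Type u} [CommRing R] {Λ : Type v₁} [Ring Λ] [Algebra R Λ]
  {A : Type v} [Ring A] [Algebra R A] {B : Type v₂} [Ring B] [Algebra R B]

theorem algEquiv_of_uv (cA : Corner R Λ A) (cB : Corner R Λ B) (u v : Λ)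
    (h1 : cA.ε * u = u) (h2 : u * cB.ε = u) (h3 : cB.ε * v = v) (h4 : v * cA.ε = v)
    (h5 : u * v = cA.ε) (h6 : v * u = cB.ε) : Nonempty (A ≃ₐ[R] B) := by
  let F : A →ₗ[R] B := cB.χ ∘ₗ (LinearMap.mulLeft R v) ∘ₗ (LinearMap.mulRight R u) ∘ₗ cA.j
  let G : B →ₗ[R] A := cA.χ ∘ₗ (LinearMap.mulLeft R u) ∘ₗ (LinearMap.mulRight R v) ∘ₗ cB.j
  have hF : ∀ a, cB.j (F a) = v * cA.j a * u := fun a => by
    change cB.j (cB.χ (v * (cA.j a * u))) = _
    rw [← cB.corner']
    calc cB.ε * (v * (cA.j a * u)) * cB.ε = (cB.ε * v) * cA.j a * (u * cB.ε) := by noncomm_ring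
      _ = v * cA.j a * u := by rw [h3, h2]
  have hG : ∀ b, cA.j (G b) = u * cB.j b * v := fun b => by
    change cA.j (cA.χ (u * (cB.j b * v))) = _
    rw [← cA.corner']
    calc cA.ε * (u * (cB.j b * v)) * cA.ε = (cA.ε * u) * cB.j b * (v * cA.ε) := by noncomm_ring
      _ = u * cB.j b * v := by rw [h1, h4]
  have hGF : ∀ a, G (F a) = a := fun a => by
    apply cA.j_injective
    rw [hG, hF]
    calc u * (v * cA.j a * u) * v = (u * v) * cA.j a * (u * v) := by noncomm_ring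
      _ = cA.j a := by rw [h5, cA.ε_j, cA.j_ε]
  have hFG : ∀ b, F (G b) = b := fun b => by
    apply cB.j_injective
    rw [hF, hG]
    calc v * (u * cB.j b * v) * u = (v * u) * cB.j b * (v * u) := by noncomm_ring
      _ = cB.j b := by rw [h6, cB.ε_j, cB.j_ε]
  have hF1 : F 1 = 1 := by
    apply cB.j_injective
    rw [hF]
    change v * cA.ε * u = cB.ε
    rw [h4, h6]
  have hFmul : ∀ a a', F (a * a') = F a * F a' := fun a a' => by
    apply cB.j_injective
    rw [cB.j_mul, hF, hF, hF, cA.j_mul]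
    calc v * (cA.j a * cA.j a') * u = v * (cA.j a * cA.ε) * cA.j a' * u := by
          rw [cA.j_ε]; noncomm_ring
      _ = v * (cA.j a * (u * v)) * cA.j a' * u := by rw [h5]
      _ = v * cA.j a * u * (v * cA.j a' * u) := by noncomm_ring
  exact ⟨AlgEquiv.ofLinearEquiv (LinearEquiv.ofLinearMap F G (LinearMap.ext hFG) (LinearMap.ext hGF))
    hF1 hFmul⟩

theorem algEquiv_of_corners (hR : LGRing.IsLGRing R) [Module.Finite R Λ] [Module.Projective R Λ]
    [IsAzumaya R A] (cA : Corner R Λ A) (cB : Corner R Λ B) (hfull : cA.Full)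
    (hrank : ∀ (m : Ideal R) [hm : m.IsMaximal],
      Module.rankAtStalk (R := R) (Lε cB.ε) ⟨m, hm.isPrime⟩ =
        Module.rankAtStalk (R := R) (Lε cA.ε) ⟨m, hm.isPrime⟩) :
    Nonempty (A ≃ₐ[R] B) := by
  haveI : Module.Projective Λ (Lε cA.ε) := Lε_projective cA.ε_mul_ε
  haveI : Module.Projective Λ (Lε cB.ε) := Lε_projective cB.ε_mul_ε
  haveI : Module.Finite R (Lε cA.ε) := Module.Finite.trans Λ _
  haveI : Module.Finite R (Lε cB.ε) := Module.Finite.trans Λ _
  haveI : Module.Projective R (Lε cA.ε) := projective_of_tower (Λ := Λ) _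
  haveI : Module.Projective R (Lε cB.ε) := projective_of_tower (Λ := Λ) _
  have hsimple : ∀ (m : Ideal R) [m.IsMaximal],
      IsSimpleRing (Λ ⧸ (mSub R Λ m Λ : Ideal Λ)) := fun m hm => by
    obtain ⟨h1, h2⟩ := corner_fibre cA hfull m (mSub_ne_top m hm.ne_top)
      (fun I _ hI => azumaya_ideal m I hI)
    exact isSimpleRing_quot_of _ h1 h2
  obtain ⟨T⟩ := nonempty_equiv_of_residue (Λ := Λ) hR (Lε cA.ε) (Lε cB.ε) fun m hm =>
    exists_residual_iso m (hsimple m) _ _ (hrank m)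
  obtain ⟨u, v, h1, h2, h3, h4, h5, h6⟩ := exists_uv_of_equiv cA.ε_mul_ε cB.ε_mul_ε T
  exact algEquiv_of_uv cA cB u v h1 h2 h3 h4 h5 h6

end Main

end Groth.Agent.Helper19.LGAz
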