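import Groth.Agent.Lib.Helper19.LGAz.Corner
import Groth.Agent.Lib.Helper29.Azumaya
import Groth.Agent.S16598

/-!
# The corner `A ↪ A ⊗ End(P)` and cancellation of Azumaya algebras over LG-rings (helper19)
-/

set_option autoImplicit false

namespace Groth.Agent.Helper19.LGAz

universe u v v₂ w w₂

open Module TensorProduct

section EndFP

variable {R : Type u} [CommRing R] (P : Type w) [AddCommGroup P] [Module R P]
  [Module.Finite R P] [Module.Projective R P]

theorem end_finite_projective :
    Module.Finite R (Module.End R P) ∧ Module.Projective R (Module.End R P) := by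
  classical
  obtain ⟨n, π, ι, -, -, hπι⟩ := Module.Finite.exists_comp_eq_id_of_projective R P
  have hπι' : ∀ x, π (ι x) = x := fun x => LinearMap.congr_fun hπι x
  let i : Module.End R P →ₗ[R] Module.End R (Fin n → R) :=
    { toFun := fun φ => ι ∘ₗ φ ∘ₗ π
      map_add' := fun φ ψ => LinearMap.ext fun v => by
        simp only [LinearMap.comp_apply, LinearMap.add_apply, map_add]
      map_smul' := fun r φ => LinearMap.ext fun v => by
        simp only [LinearMap.comp_apply, LinearMap.smul_apply, map_smul, RingHom.id_apply] }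
  let s : Module.End R (Fin n → R) →ₗ[R] Module.End R P :=
    { toFun := fun ψ => π ∘ₗ ψ ∘ₗ ι
      map_add' := fun φ ψ => LinearMap.ext fun v => by
        simp only [LinearMap.comp_apply, LinearMap.add_apply, map_add]
      map_smul' := fun r φ => LinearMap.ext fun v => by
        simp only [LinearMap.comp_apply, LinearMap.smul_apply, map_smul, RingHom.id_apply] }
  have hsi : s ∘ₗ i = LinearMap.id := LinearMap.ext fun φ => LinearMap.ext fun x => by
    change π (ι (φ (π (ι x)))) = φ x
    rw [hπι', hπι']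
  exact ⟨Module.Finite.of_surjective s (LinearMap.surjective_of_comp_eq_id _ _ hsi),
    Module.Projective.of_split i s hsi⟩

theorem rankAtStalk_end (m : Ideal R) [hm : m.IsMaximal] :
    Module.rankAtStalk (R := R) (Module.End R P) ⟨m, hm.isPrime⟩ =
      (Module.rankAtStalk (R := R) P ⟨m, hm.isPrime⟩) ^ 2 := by
  haveI := (end_finite_projective (R := R) P).1
  haveI := (end_finite_projective (R := R) P).2
  letI : Field (R ⧸ m) := Ideal.Quotient.field m
  rw [← finrank_fibre_eq_rankAtStalk m (Module.End R P), ← finrank_fibre_eq_rankAtStalk m P]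
  have e : (R ⧸ m) ⊗[R] (P →ₗ[R] P) ≃ₗ[R ⧸ m]
      ((R ⧸ m) ⊗[R] P →ₗ[R ⧸ m] (R ⧸ m) ⊗[R] P) :=
    LinearEquiv.ofBijective (LinearMap.tensorProduct R (R ⧸ m) P P)
      (Groth.Agent.Helper29.tensorProduct_bijective_of_finite_projective R (R ⧸ m) P P)
  rw [e.finrank_eq, Module.finrank_linearMap, sq]

theorem rank_pos_of_faithful [FaithfulSMul R P] (m : Ideal R) [hm : m.IsMaximal] :
    0 < Module.rankAtStalk (R := R) P ⟨m, hm.isPrime⟩ := by
  have h1 := length_quot_eq (Λ := R) m P
  rw [finrank_fibre_eq_rankAtStalk] at h1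
  have h2 : Nontrivial (P ⧸ mSub R R m P) :=
    Submodule.Quotient.nontrivial_iff.mpr (fun htop => smul_top_ne_top m hm.ne_top P (by
      rw [← mSub_restrictScalars (Λ := R) m P, htop]; rfl))
  have h3 : 0 < Module.length R (P ⧸ mSub R R m P) := Module.length_pos_iff.mpr h2
  rw [h1] at h3
  exact_mod_cast h3

end EndFP

section EndCorner

variable {R : Type u} [CommRing R] (A : Type v) [Ring A] [Algebra R A]
  {P : Type w} [AddCommGroup P] [Module R P] (p₀ : P) (f₀ : Module.Dual R P)

/-- the rank one idempotent `x ↦ f₀ x • p₀`. -/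
def pi0 : Module.End R P := f₀.smulRight p₀

theorem pi0_apply (x : P) : pi0 p₀ f₀ x = f₀ x • p₀ := rfl

variable (h₀ : f₀ p₀ = 1)

include h₀ in
theorem pi0_mul_pi0 : pi0 p₀ f₀ * pi0 p₀ f₀ = pi0 p₀ f₀ := by
  refine LinearMap.ext fun x => ?_
  simp only [Module.End.mul_apply, pi0_apply, map_smul, h₀, one_smul]

theorem pi0_mul_mul_pi0 (φ : Module.End R P) :
    pi0 p₀ f₀ * φ * pi0 p₀ f₀ = f₀ (φ p₀) • pi0 p₀ f₀ := by
  refine LinearMap.ext fun x => ?_
  simp only [Module.End.mul_apply, pi0_apply, map_smul, LinearMap.smul_apply]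
  rw [smul_smul, smul_smul, mul_comm]

theorem mul_pi0 (φ : Module.End R P) : φ * pi0 p₀ f₀ = f₀.smulRight (φ p₀) := by
  refine LinearMap.ext fun x => ?_
  simp only [Module.End.mul_apply, pi0_apply, map_smul, LinearMap.smulRight_apply]

/-- the corner `A ≅ ε (A ⊗ End P) ε`. -/
noncomputable def endCorner : Corner R (A ⊗[R] Module.End R P) A where
  j := (TensorProduct.mk R A (Module.End R P)).flip (pi0 p₀ f₀)
  χ := (TensorProduct.rid R A).toLinearMap ∘ₗ LinearMap.lTensor A (f₀ ∘ₗ LinearMap.applyₗ p₀)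
  j_mul := fun a b => by
    simp only [LinearMap.flip_apply, TensorProduct.mk_apply, Algebra.TensorProduct.tmul_mul_tmul,
      pi0_mul_pi0 p₀ f₀ h₀]
  χ_j := fun a => by
    simp only [LinearMap.flip_apply, TensorProduct.mk_apply, LinearMap.comp_apply,
      LinearMap.lTensor_tmul, LinearEquiv.coe_coe, TensorProduct.rid_tmul, LinearMap.applyₗ_apply_apply,
      pi0_apply, h₀, one_smul]
  corner := fun w => by
    induction w using TensorProduct.induction_on with
    | zero => simp only [mul_zero, zero_mul, map_zero]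
    | tmul a φ =>
      simp only [LinearMap.flip_apply, TensorProduct.mk_apply, Algebra.TensorProduct.tmul_mul_tmul,
        one_mul, mul_one, LinearMap.comp_apply, LinearMap.lTensor_tmul, LinearEquiv.coe_coe,
        TensorProduct.rid_tmul, LinearMap.applyₗ_apply_apply, pi0_mul_mul_pi0]
      rw [TensorProduct.smul_tmul]
    | add w₁ w₂ h₁ h₂ => simp only [mul_add, add_mul, map_add, h₁, h₂]

theorem endCorner_ε : (endCorner A p₀ f₀ h₀).ε = (1 : A) ⊗ₜ[R] pi0 p₀ f₀ := rfl

theorem endCorner_full [Module.Finite R P] [Module.Projective R P] :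
    (endCorner A p₀ f₀ h₀).Full := by
  classical
  obtain ⟨n, π, ι, -, -, hπι⟩ := Module.Finite.exists_comp_eq_id_of_projective R P
  let pp : Fin n → P := fun i => π (fun j => if i = j then (1 : R) else 0)
  let ff : Fin n → Module.Dual R P := fun i => LinearMap.proj i ∘ₗ ι
  have hdual : ∀ x, x = ∑ i, ff i x • pp i := fun x => by
    have h1 : π (ι x) = x := LinearMap.congr_fun hπι x
    conv_lhs => rw [← h1, LinearMap.pi_apply_eq_sum_univ π (ι x)]
    rfl
  refine ⟨n, fun i => (1 : A) ⊗ₜ[R] (f₀.smulRight (pp i)),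
    fun i => (1 : A) ⊗ₜ[R] ((ff i).smulRight p₀), ?_⟩
  simp only [endCorner_ε, Algebra.TensorProduct.tmul_mul_tmul, mul_one]
  rw [← TensorProduct.tmul_sum, Algebra.TensorProduct.one_def]
  congr 1
  refine LinearMap.ext fun x => ?_
  rw [LinearMap.sum_apply, Module.End.one_apply]
  conv_rhs => rw [hdual x]
  refine Finset.sum_congr rfl fun i _ => ?_
  simp only [Module.End.mul_apply, LinearMap.smulRight_apply, pi0_apply, map_smul,
    h₀, one_smul]

/-- `A ⊗ P ≅ Λ ε` as `R`-modules. -/
noncomputable def LεEquiv :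
    (A ⊗[R] P) ≃ₗ[R] ↥(Lε (endCorner A p₀ f₀ h₀).ε) := by
  let κ : A ⊗[R] P →ₗ[R] A ⊗[R] Module.End R P :=
    LinearMap.lTensor A (LinearMap.smulRightₗ f₀ : P →ₗ[R] Module.End R P)
  let ρ : A ⊗[R] Module.End R P →ₗ[R] A ⊗[R] P :=
    LinearMap.lTensor A (LinearMap.applyₗ p₀ : Module.End R P →ₗ[R] P)
  have hε := (endCorner A p₀ f₀ h₀).ε_mul_ε
  have hρκ : ∀ t, ρ (κ t) = t := fun t => by
    induction t using TensorProduct.induction_on with
    | zero => simp only [map_zero]
    | tmul a p =>
      simp only [κ, ρ, LinearMap.lTensor_tmul, LinearMap.applyₗ_apply_apply,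
        LinearMap.smulRightₗ_apply, LinearMap.smulRight_apply, h₀, one_smul]
    | add t₁ t₂ h₁ h₂ => simp only [map_add, h₁, h₂]
  have hκρ : ∀ w, κ (ρ w) = w * (endCorner A p₀ f₀ h₀).ε := fun w => by
    induction w using TensorProduct.induction_on with
    | zero => simp only [map_zero, zero_mul]
    | tmul a φ =>
      simp only [κ, ρ, LinearMap.lTensor_tmul, LinearMap.applyₗ_apply_apply,
        LinearMap.smulRightₗ_apply, endCorner_ε, Algebra.TensorProduct.tmul_mul_tmul, mul_one,
        mul_pi0]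
    | add w₁ w₂ h₁ h₂ => simp only [map_add, add_mul, h₁, h₂]
  exact
    { toFun := fun t => ⟨κ t, (mem_Lε hε).mpr (by rw [← hκρ, hρκ])⟩
      map_add' := fun s t => Subtype.ext (by
        simp only [map_add, Submodule.coe_add])
      map_smul' := fun r t => Subtype.ext (by
        simp only [map_smul, RingHom.id_apply, Submodule.coe_smul_of_tower])
      invFun := fun x => ρ x.1
      left_inv := fun t => hρκ t
      right_inv := fun x => Subtype.ext (by
        change κ (ρ x.1) = x.1
        rw [hκρ]; exact (mem_Lε hε).mp x.2) }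

end EndCorner

section Transport

variable {R : Type u} [CommRing R] {Λ : Type v} [Ring Λ] [Algebra R Λ]
  {Λ' : Type v₂} [Ring Λ'] [Algebra R Λ']

/-- an algebra isomorphism identifies the corresponding left ideals. -/
noncomputable def LεEquivOfAlgEquiv (e : Λ ≃ₐ[R] Λ') (ε' : Λ') (hε' : ε' * ε' = ε') :
    ↥(Lε (e.symm ε')) ≃ₗ[R] ↥(Lε ε') := by
  have hε : e.symm ε' * e.symm ε' = e.symm ε' := by rw [← map_mul, hε']
  exact
    { toFun := fun x => ⟨e x.1, (mem_Lε hε').mpr (by
        have h1 := (mem_Lε hε).mp x.2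
        have h2 := congrArg e h1
        rw [map_mul, AlgEquiv.apply_symm_apply] at h2
        exact h2)⟩
      map_add' := fun s t => Subtype.ext (by
        simp only [map_add, Submodule.coe_add])
      map_smul' := fun r t => Subtype.ext (by
        simp only [map_smul, RingHom.id_apply, Submodule.coe_smul_of_tower])
      invFun := fun y => ⟨e.symm y.1, (mem_Lε hε).mpr (by
        rw [← map_mul, (mem_Lε hε').mp y.2])⟩
      left_inv := fun x => Subtype.ext (e.symm_apply_apply _)
      right_inv := fun y => Subtype.ext (e.apply_symm_apply _) }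

end Transport

section Cancel

variable {R : Type u} [CommRing R]

theorem brauer_cancel_core (hR : LGRing.IsLGRing R) (A B : Type v) [Ring A] [Algebra R A]
    [IsAzumaya R A] [Ring B] [Algebra R B] [IsAzumaya R B]
    (P : Type w) [AddCommGroup P] [Module R P] [Module.Finite R P] [Module.Projective R P]
    [FaithfulSMul R P]
    (Q : Type w₂) [AddCommGroup Q] [Module R Q] [Module.Finite R Q] [Module.Projective R Q]
    [FaithfulSMul R Q]
    (e : A ⊗[R] Module.End R P ≃ₐ[R] B ⊗[R] Module.End R Q)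
    (hAB : ∀ (m : Ideal R) [hm : m.IsMaximal],
      Module.rankAtStalk (R := R) A ⟨m, hm.isPrime⟩ = Module.rankAtStalk (R := R) B ⟨m, hm.isPrime⟩)
    (hPQ : ∀ (m : Ideal R) [hm : m.IsMaximal],
      Module.rankAtStalk (R := R) P ⟨m, hm.isPrime⟩ = Module.rankAtStalk (R := R) Q ⟨m, hm.isPrime⟩) :
    Nonempty (A ≃ₐ[R] B) := by
  obtain ⟨p₀, f₀, h₀⟩ := Groth.Agent.S16598.result hR P
  obtain ⟨q₀, g₀, k₀⟩ := Groth.Agent.S16598.result hR Q
  haveI := (end_finite_projective (R := R) P).1
  haveI := (end_finite_projective (R := R) P).2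
  refine algEquiv_of_corners hR (endCorner A p₀ f₀ h₀)
    (Corner.transport e (endCorner B q₀ g₀ k₀)) (endCorner_full A p₀ f₀ h₀) (fun m hm => ?_)
  have h1 : Module.rankAtStalk (R := R) (Lε (endCorner A p₀ f₀ h₀).ε) =
      Module.rankAtStalk (R := R) (A ⊗[R] P) :=
    (Module.rankAtStalk_eq_of_equiv (LεEquiv A p₀ f₀ h₀)).symm
  have h2 : Module.rankAtStalk (R := R) (Lε (Corner.transport e (endCorner B q₀ g₀ k₀)).ε) =
      Module.rankAtStalk (R := R) (B ⊗[R] Q) := by
    rw [Corner.transport_ε,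
      Module.rankAtStalk_eq_of_equiv (LεEquivOfAlgEquiv e (endCorner B q₀ g₀ k₀).ε
        (endCorner B q₀ g₀ k₀).ε_mul_ε)]
    exact (Module.rankAtStalk_eq_of_equiv (LεEquiv B q₀ g₀ k₀)).symm
  rw [h1, h2, Module.rankAtStalk_tensorProduct, Module.rankAtStalk_tensorProduct, Pi.mul_apply,
    Pi.mul_apply, hAB m, hPQ m]

/-- ranks from the isomorphism. -/
theorem rank_relation (A B : Type v) [Ring A] [Algebra R A]
    [IsAzumaya R A] [Ring B] [Algebra R B] [IsAzumaya R B]
    (P : Type w) [AddCommGroup P] [Module R P] [Module.Finite R P] [Module.Projective R P]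
    (Q : Type w₂) [AddCommGroup Q] [Module R Q] [Module.Finite R Q] [Module.Projective R Q]
    (e : A ⊗[R] Module.End R P ≃ₐ[R] B ⊗[R] Module.End R Q) (m : Ideal R) [hm : m.IsMaximal] :
    Module.rankAtStalk (R := R) A ⟨m, hm.isPrime⟩ *
        (Module.rankAtStalk (R := R) P ⟨m, hm.isPrime⟩) ^ 2 =
      Module.rankAtStalk (R := R) B ⟨m, hm.isPrime⟩ *
        (Module.rankAtStalk (R := R) Q ⟨m, hm.isPrime⟩) ^ 2 := by
  haveI := (end_finite_projective (R := R) P).1
  haveI := (end_finite_projective (R := R) P).2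
  haveI := (end_finite_projective (R := R) Q).1
  haveI := (end_finite_projective (R := R) Q).2
  have h := congrFun (Module.rankAtStalk_eq_of_equiv e.toLinearEquiv) ⟨m, hm.isPrime⟩
  rw [Module.rankAtStalk_tensorProduct, Module.rankAtStalk_tensorProduct, Pi.mul_apply,
    Pi.mul_apply, rankAtStalk_end, rankAtStalk_end] at h
  exact h

theorem brauer_cancel_deg (hR : LGRing.IsLGRing R) (A B : Type v) [Ring A] [Algebra R A]
    [IsAzumaya R A] [Ring B] [Algebra R B] [IsAzumaya R B]
    (P : Type w) [AddCommGroup P] [Module R P] [Module.Finite R P] [Module.Projective R P]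
    [FaithfulSMul R P]
    (Q : Type w₂) [AddCommGroup Q] [Module R Q] [Module.Finite R Q] [Module.Projective R Q]
    [FaithfulSMul R Q]
    (e : A ⊗[R] Module.End R P ≃ₐ[R] B ⊗[R] Module.End R Q)
    (hAB : ∀ (m : Ideal R) [hm : m.IsMaximal],
      Module.rankAtStalk (R := R) A ⟨m, hm.isPrime⟩ =
        Module.rankAtStalk (R := R) B ⟨m, hm.isPrime⟩) :
    Nonempty (A ≃ₐ[R] B) := by
  refine brauer_cancel_core hR A B P Q e hAB (fun m hm => ?_)
  have h := rank_relation A B P Q e m
  rw [hAB m] at h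
  have hpos : 0 < Module.rankAtStalk (R := R) B ⟨m, hm.isPrime⟩ := rank_pos_of_faithful B m
  have h2 := Nat.eq_of_mul_eq_mul_left hpos h
  exact Nat.pow_left_injective two_ne_zero h2

theorem brauer_cancel_same (hR : LGRing.IsLGRing R) (A B : Type v) [Ring A] [Algebra R A]
    [IsAzumaya R A] [Ring B] [Algebra R B] [IsAzumaya R B]
    (P : Type w) [AddCommGroup P] [Module R P] [Module.Finite R P] [Module.Projective R P]
    [FaithfulSMul R P]
    (e : A ⊗[R] Module.End R P ≃ₐ[R] B ⊗[R] Module.End R P) :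
    Nonempty (A ≃ₐ[R] B) := by
  refine brauer_cancel_core hR A B P P e (fun m hm => ?_) (fun m hm => rfl)
  have h := rank_relation A B P P e m
  have hpos : 0 < (Module.rankAtStalk (R := R) P ⟨m, hm.isPrime⟩) ^ 2 :=
    Nat.pow_pos (rank_pos_of_faithful P m)
  exact Nat.eq_of_mul_eq_mul_right hpos h

end Cancel

end Groth.Agent.Helper19.LGAz
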