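import Mathlib

/-!
# Fibres of modules over a finite algebra at a maximal ideal (helper19)

`Λ` is an `R`-algebra, `m` a maximal ideal of `R`.  We study the `Λ`-modules `M ⧸ m M`
when `Λ ⧸ m Λ` is a simple (automatically artinian) ring.
-/

set_option autoImplicit false

namespace Groth.Agent.Helper19.LGAz

universe u v w

open Module TensorProduct

section mSub

variable (R : Type u) [CommRing R] (Λ : Type v) [Ring Λ] [Algebra R Λ]

/-- `m M` as a `Λ`-submodule of `M`. -/
def mSub (m : Ideal R) (M : Type w) [AddCommGroup M] [Module Λ M] [Module R M]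
    [IsScalarTower R Λ M] : Submodule Λ M where
  carrier := ((m • (⊤ : Submodule R M) : Submodule R M) : Set M)
  add_mem' := fun {a b} ha hb => (m • (⊤ : Submodule R M)).add_mem ha hb
  zero_mem' := (m • (⊤ : Submodule R M)).zero_mem
  smul_mem' := by
    intro c x hx
    change c • x ∈ m • (⊤ : Submodule R M)
    change x ∈ m • (⊤ : Submodule R M) at hx
    refine Submodule.smul_induction_on hx (fun r hr y _ => ?_) (fun y z hy hz => ?_)
    · rw [smul_comm c r y]
      exact Submodule.smul_mem_smul hr Submodule.mem_top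
    · rw [smul_add]; exact Submodule.add_mem _ hy hz

variable {R Λ}

theorem mem_mSub {m : Ideal R} {M : Type w} [AddCommGroup M] [Module Λ M] [Module R M]
    [IsScalarTower R Λ M] {x : M} :
    x ∈ mSub R Λ m M ↔ x ∈ m • (⊤ : Submodule R M) := Iff.rfl

theorem mSub_restrictScalars (m : Ideal R) (M : Type w) [AddCommGroup M] [Module Λ M]
    [Module R M] [IsScalarTower R Λ M] :
    (mSub R Λ m M).restrictScalars R = m • (⊤ : Submodule R M) := by
  ext x; exact Iff.rfl

instance mSub_isTwoSided (m : Ideal R) : Ideal.IsTwoSided (mSub R Λ m Λ) := by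
  constructor
  intro a b ha
  change a ∈ m • (⊤ : Submodule R Λ) at ha
  change a * b ∈ m • (⊤ : Submodule R Λ)
  refine Submodule.smul_induction_on ha (fun r hr y _ => ?_) (fun y z hy hz => ?_)
  · rw [smul_mul_assoc]
    exact Submodule.smul_mem_smul hr Submodule.mem_top
  · rw [add_mul]; exact Submodule.add_mem _ hy hz

theorem isTorsionBySet_quot (m : Ideal R) (M : Type w) [AddCommGroup M] [Module Λ M]
    [Module R M] [IsScalarTower R Λ M] :
    Module.IsTorsionBySet Λ (M ⧸ mSub R Λ m M) ((mSub R Λ m Λ : Ideal Λ) : Set Λ) := by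
  rw [Module.isTorsionBySet_quotient_iff]
  intro x j hj
  change j ∈ m • (⊤ : Submodule R Λ) at hj
  change j • x ∈ m • (⊤ : Submodule R M)
  refine Submodule.smul_induction_on hj (fun r hr y _ => ?_) (fun y z hy hz => ?_)
  · rw [smul_assoc]
    exact Submodule.smul_mem_smul hr Submodule.mem_top
  · rw [add_smul]; exact Submodule.add_mem _ hy hz

/-- the `R`-length of the fibre is the dimension of `k ⊗ M`. -/
theorem length_quot_eq (m : Ideal R) [hm : m.IsMaximal] (M : Type w) [AddCommGroup M]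
    [Module Λ M] [Module R M] [IsScalarTower R Λ M] [Module.Finite R M] :
    Module.length R (M ⧸ mSub R Λ m M) =
      (Module.finrank (R ⧸ m) ((R ⧸ m) ⊗[R] M) : ℕ∞) := by
  letI : Field (R ⧸ m) := Ideal.Quotient.field m
  have e1 : (M ⧸ (mSub R Λ m M).restrictScalars R) ≃ₗ[R] (M ⧸ mSub R Λ m M) :=
    Submodule.Quotient.restrictScalarsEquiv R (mSub R Λ m M)
  have e2 : (M ⧸ (m • (⊤ : Submodule R M))) ≃ₗ[R] (M ⧸ (mSub R Λ m M).restrictScalars R) :=
    Submodule.quotEquivOfEq _ _ (mSub_restrictScalars m M).symm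
  have e3 : ((R ⧸ m) ⊗[R] M) ≃ₗ[R] (M ⧸ (m • (⊤ : Submodule R M))) :=
    TensorProduct.quotTensorEquivQuotSMul M m
  rw [← (e3.trans (e2.trans e1)).length_eq]
  rw [Module.length_eq_of_surjective (S := R) (R := R ⧸ m) (M := (R ⧸ m) ⊗[R] M)
    Ideal.Quotient.mk_surjective]
  exact Module.length_eq_finrank (R ⧸ m) _

theorem finrank_fibre_eq_rankAtStalk (m : Ideal R) [hm : m.IsMaximal] (M : Type w)
    [AddCommGroup M] [Module R M] [Module.Finite R M] [Module.Flat R M] :
    Module.finrank (R ⧸ m) ((R ⧸ m) ⊗[R] M) = Module.rankAtStalk M ⟨m, hm.isPrime⟩ := by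
  letI : Field (R ⧸ m) := Ideal.Quotient.field m
  let p : PrimeSpectrum (R ⧸ m) := ⟨⊥, Ideal.isPrime_bot⟩
  have h1 := Module.rankAtStalk_baseChange (R := R) (M := M) (S := R ⧸ m) p
  have h2 : Module.rankAtStalk (R := R ⧸ m) ((R ⧸ m) ⊗[R] M) p =
      Module.finrank (R ⧸ m) ((R ⧸ m) ⊗[R] M) := by
    rw [Module.rankAtStalk_eq_finrank_of_free]; rfl
  have h3 : p.comap (algebraMap R (R ⧸ m)) = ⟨m, hm.isPrime⟩ := by
    apply PrimeSpectrum.ext
    change Ideal.comap (algebraMap R (R ⧸ m)) ⊥ = m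
    rw [← RingHom.ker_eq_comap_bot]
    exact Ideal.mk_ker
  rw [← h3, ← h1, h2]

theorem isArtinianRing_quot (m : Ideal R) [hm : m.IsMaximal] [Module.Finite R Λ] :
    IsArtinianRing (Λ ⧸ (mSub R Λ m Λ : Ideal Λ)) := by
  have hlen : Module.length R (Λ ⧸ mSub R Λ m Λ) ≠ ⊤ := by
    rw [length_quot_eq]; exact ENat.natCast_ne_top _
  rw [Module.length_ne_top_iff, isFiniteLength_iff_isNoetherian_isArtinian] at hlen
  exact isArtinian_of_tower R hlen.2

end mSub

section Structure

variable {Λ : Type v} [Ring Λ] (J : Ideal Λ) [J.IsTwoSided]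

/-- classification of f.g. `Λ`-modules killed by `J` when `Λ ⧸ J` is simple artinian. -/
theorem exists_simple_type [IsSimpleRing (Λ ⧸ J)] [IsArtinianRing (Λ ⧸ J)] :
    ∃ (S : Type v) (_ : AddCommGroup S) (_ : Module Λ S), Nontrivial S ∧
      ∀ (X : Type w) [AddCommGroup X] [Module Λ X] [Module.Finite Λ X],
        Module.IsTorsionBySet Λ X (J : Set Λ) → ∃ a : ℕ, Nonempty (X ≃ₗ[Λ] (Fin a → S)) := by
  classical
  obtain ⟨S₀, hS₀⟩ := IsAtomic.exists_atom (Ideal (Λ ⧸ J))
  haveI hsimple : IsSimpleModule (Λ ⧸ J) S₀ := isSimpleModule_iff_isAtom.mpr hS₀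
  refine ⟨S₀, inferInstance, Module.compHom S₀ (Ideal.Quotient.mk J),
    IsSimpleModule.nontrivial (Λ ⧸ J) S₀, ?_⟩
  intro X _ _ _ hX
  letI : Module (Λ ⧸ J) X := hX.module
  haveI : IsScalarTower Λ (Λ ⧸ J) X := ⟨fun a b x => by
    induction b using Quotient.inductionOn' with
    | h c => exact (mul_smul a c x)⟩
  haveI : Module.Finite (Λ ⧸ J) X := Module.Finite.of_restrictScalars_finite Λ (Λ ⧸ J) X
  have hiso : IsIsotypicOfType (Λ ⧸ J) X S₀ := fun mm _ => by
    obtain ⟨I, ⟨e⟩⟩ := IsSemisimpleRing.exists_linearEquiv_ideal_of_isSimpleModule (Λ ⧸ J) mm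
    haveI : IsSimpleModule (Λ ⧸ J) I := IsSimpleModule.congr e.symm
    obtain ⟨e'⟩ := IsSimpleRing.isIsotypic (Λ ⧸ J) (Λ ⧸ J) S₀ I
    exact ⟨e.trans e'⟩
  obtain ⟨a, ⟨e⟩⟩ := hiso.linearEquiv_fun
  refine ⟨a, ⟨?_⟩⟩
  letI : Module Λ S₀ := Module.compHom S₀ (Ideal.Quotient.mk J)
  exact
    { e.toAddEquiv with
      map_smul' := fun c x => by
        have := e.map_smul (Ideal.Quotient.mk J c) x
        exact this }

end Structure

section Pow

variable {Λ : Type v} [Ring Λ] (S : Type*) [AddCommGroup S] [Module Λ S]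

/-- extension by zero `S^a → S^b`. -/
def extZero (a b : ℕ) : (Fin a → S) →ₗ[Λ] (Fin b → S) :=
  LinearMap.pi fun j =>
    if h : j.val < a then LinearMap.proj (⟨j.val, h⟩ : Fin a) else 0

theorem extZero_apply (a b : ℕ) (g : Fin a → S) (j : Fin b) :
    extZero (Λ := Λ) S a b g j = if h : j.val < a then g ⟨j.val, h⟩ else 0 := by
  unfold extZero
  by_cases h : j.val < a
  · simp [h]
  · simp [h]

/-- restriction `S^a → S^b` for `b ≤ a`. -/
def restr (a b : ℕ) (h : b ≤ a) : (Fin a → S) →ₗ[Λ] (Fin b → S) :=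
  LinearMap.funLeft Λ S (Fin.castLE h)

theorem restr_apply (a b : ℕ) (h : b ≤ a) (g : Fin a → S) (j : Fin b) :
    restr (Λ := Λ) S a b h g j = g (Fin.castLE h j) := rfl

theorem restr_extZero (a b : ℕ) (h : b ≤ a) (g : Fin b → S) :
    restr (Λ := Λ) S a b h (extZero (Λ := Λ) S b a g) = g := by
  funext j
  rw [restr_apply, extZero_apply]
  have : (Fin.castLE h j).val < b := j.isLt
  rw [dif_pos this]
  exact congrArg g (Fin.ext rfl)

theorem extZero_injective (a b : ℕ) (h : a ≤ b) :
    Function.Injective (extZero (Λ := Λ) S a b) := by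
  intro g g' hgg
  have := congrArg (restr (Λ := Λ) S b a h) hgg
  rwa [restr_extZero, restr_extZero] at this

theorem extZero_not_surjective [Nontrivial S] (a b : ℕ) (h : a < b) :
    ¬ Function.Surjective (extZero (Λ := Λ) S a b) := by
  intro hsurj
  obtain ⟨s, hs⟩ := exists_ne (0 : S)
  obtain ⟨g, hg⟩ := hsurj (fun _ => s)
  have := congrFun hg ⟨a, h⟩
  rw [extZero_apply, dif_neg (lt_irrefl a)] at this
  exact hs this.symm

end Pow

section Compare

variable {R : Type u} [CommRing R] {Λ : Type v} [Ring Λ] [Algebra R Λ]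

theorem le_of_length_le (S : Type*) [AddCommGroup S] [Module Λ S] [Nontrivial S]
    (X Y : Type*) [AddCommGroup X] [Module Λ X] [Module R X] [IsScalarTower R Λ X]
    [AddCommGroup Y] [Module Λ Y] [Module R Y] [IsScalarTower R Λ Y]
    {a b : ℕ} (eX : X ≃ₗ[Λ] (Fin a → S)) (eY : Y ≃ₗ[Λ] (Fin b → S))
    (hfin : Module.length R X ≠ ⊤) (hle : Module.length R Y ≤ Module.length R X) : b ≤ a := by
  by_contra hlt
  push Not at hlt
  let f : X →ₗ[Λ] Y := eY.symm.toLinearMap ∘ₗ extZero (Λ := Λ) S a b ∘ₗ eX.toLinearMap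
  have hinj : Function.Injective f := by
    intro x y hxy
    have h1 : extZero (Λ := Λ) S a b (eX x) = extZero (Λ := Λ) S a b (eX y) :=
      eY.symm.injective hxy
    exact eX.injective (extZero_injective S a b hlt.le h1)
  have hns : ¬ Function.Surjective f := by
    intro hsurj
    apply extZero_not_surjective (Λ := Λ) S a b hlt
    intro z
    obtain ⟨x, hx⟩ := hsurj (eY.symm z)
    refine ⟨eX x, ?_⟩
    exact eY.symm.injective hx
  let fR : X →ₗ[R] Y := f.restrictScalars R
  have hYfin : Module.length R Y ≠ ⊤ := ne_top_of_le_ne_top hfin hle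
  obtain ⟨_, _⟩ := isFiniteLength_iff_isNoetherian_isArtinian.mp
    (Module.length_ne_top_iff.mp hYfin)
  have h1 : Module.length R X = Module.length R (LinearMap.range fR) :=
    (LinearEquiv.ofInjective fR hinj).length_eq
  have h2 : Module.length R (LinearMap.range fR) < Module.length R Y :=
    Submodule.length_lt (by
      rw [Ne, LinearMap.range_eq_top]
      exact hns)
  rw [← h1] at h2
  exact absurd h2 (not_lt.mpr hle)

end Compare

end Groth.Agent.Helper19.LGAz
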