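import Groth.Agent.Lib.Helper19.LGAz.Azu

/-!
# Indecomposable projective modules over Azumaya algebras over connected LG-rings (helper19)
-/

set_option autoImplicit false

namespace Groth.Agent.Helper19.LGAz

universe u v w

theorem equiv_of_surjective_indec {A : Type v} [Ring A] {P Q : Type w} [AddCommGroup P]
    [Module A P] [AddCommGroup Q] [Module A Q] [Module.Projective A Q] [Nontrivial Q]
    (f : P →ₗ[A] Q) (hf : Function.Surjective f)
    (hP : ∀ e : Module.End A P, IsIdempotentElem e → e = 0 ∨ e = 1) : Nonempty (P ≃ₗ[A] Q) := by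
  obtain ⟨s, hs⟩ := Module.projective_lifting_property f LinearMap.id hf
  have hs' : ∀ y, f (s y) = y := fun y => LinearMap.congr_fun hs y
  have hidem : IsIdempotentElem (s ∘ₗ f : Module.End A P) := by
    refine LinearMap.ext fun x => ?_
    rw [Module.End.mul_apply, LinearMap.comp_apply, LinearMap.comp_apply, hs']
  rcases hP _ hidem with h0 | h1
  · exfalso
    obtain ⟨y, hy⟩ := exists_ne (0 : Q)
    obtain ⟨x, rfl⟩ := hf y
    have h3 : f (s (f x)) = f x := hs' _
    have h2 : (s ∘ₗ f : Module.End A P) x = 0 := by rw [h0]; rfl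
    rw [LinearMap.comp_apply] at h2
    rw [h2, map_zero] at h3
    exact hy h3.symm
  · have hinj : Function.Injective f := by
      intro x y hxy
      have hx : (s ∘ₗ f : Module.End A P) x = x := by rw [h1]; rfl
      have hy : (s ∘ₗ f : Module.End A P) y = y := by rw [h1]; rfl
      rw [← hx, ← hy, LinearMap.comp_apply, LinearMap.comp_apply, hxy]
    exact ⟨LinearEquiv.ofBijective f ⟨hinj, hf⟩⟩

theorem nonempty_equiv_of_indec {R : Type u} [CommRing R] (hR : LGRing.IsLGRing R)
    [ConnectedSpace (PrimeSpectrum R)] {A : Type v} [Ring A] [Algebra R A] [IsAzumaya R A]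
    (P Q : Type w) [AddCommGroup P] [Module A P] [Module R P] [IsScalarTower R A P]
    [Module.Finite A P] [Module.Projective A P] [Nontrivial P]
    [AddCommGroup Q] [Module A Q] [Module R Q] [IsScalarTower R A Q]
    [Module.Finite A Q] [Module.Projective A Q] [Nontrivial Q]
    (hP : ∀ e : Module.End A P, IsIdempotentElem e → e = 0 ∨ e = 1)
    (hQ : ∀ e : Module.End A Q, IsIdempotentElem e → e = 0 ∨ e = 1) : Nonempty (P ≃ₗ[A] Q) := by
  haveI : Module.Finite R P := Module.Finite.trans A P
  haveI : Module.Finite R Q := Module.Finite.trans A Q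
  haveI : Module.Projective R P := projective_of_tower (Λ := A) P
  haveI : Module.Projective R Q := projective_of_tower (Λ := A) Q
  haveI : Module.FinitePresentation R P := Module.finitePresentation_of_projective R P
  haveI : Module.FinitePresentation R Q := Module.finitePresentation_of_projective R Q
  have hcP : ∀ p q : PrimeSpectrum R, Module.rankAtStalk P p = Module.rankAtStalk P q :=
    fun p q => (Module.isLocallyConstant_rankAtStalk (R := R) (M := P)).apply_eq_of_preconnectedSpace
      p q
  have hcQ : ∀ p q : PrimeSpectrum R, Module.rankAtStalk Q p = Module.rankAtStalk Q q :=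
    fun p q => (Module.isLocallyConstant_rankAtStalk (R := R) (M := Q)).apply_eq_of_preconnectedSpace
      p q
  obtain ⟨p₀⟩ : Nonempty (PrimeSpectrum R) := inferInstance
  rcases le_total (Module.rankAtStalk Q p₀) (Module.rankAtStalk P p₀) with hle | hle
  · obtain ⟨f, hf⟩ := exists_surjective_of_rank_le (A := A) hR P Q (fun m hm => by
      rw [hcQ _ p₀, hcP _ p₀]; exact hle)
    exact equiv_of_surjective_indec (A := A) f hf hP
  · obtain ⟨f, hf⟩ := exists_surjective_of_rank_le (A := A) hR Q P (fun m hm => by
      rw [hcQ _ p₀, hcP _ p₀]; exact hle)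
    exact (equiv_of_surjective_indec (A := A) f hf hQ).map LinearEquiv.symm

end Groth.Agent.Helper19.LGAz
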