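import Groth.Agent.Lib.Helper19.LGAz.Fib

/-!
# Residual splittings (helper19)

For `Λ` finite over `R`, `m` maximal in `R` with `Λ ⧸ m Λ` simple, f.g. projective `Λ`-modules
are compared on the fibre at `m` through their `R`-ranks.
-/

set_option autoImplicit false

namespace Groth.Agent.Helper19.LGAz

universe u v w

open Module

section

variable {R : Type u} [CommRing R] {Λ : Type v} [Ring Λ] [Algebra R Λ]

/-- lifting a map between fibres. -/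
theorem lift_fibre_map (m : Ideal R) (M N : Type w) [AddCommGroup M] [Module Λ M] [Module R M]
    [IsScalarTower R Λ M] [Module.Projective Λ M]
    [AddCommGroup N] [Module Λ N] [Module R N] [IsScalarTower R Λ N]
    (φb : (M ⧸ mSub R Λ m M) →ₗ[Λ] (N ⧸ mSub R Λ m N)) :
    ∃ φ : M →ₗ[Λ] N, ∀ x, (mSub R Λ m N).mkQ (φ x) = φb ((mSub R Λ m M).mkQ x) := by
  obtain ⟨φ, hφ⟩ := Module.projective_lifting_property (mSub R Λ m N).mkQ
    (φb ∘ₗ (mSub R Λ m M).mkQ) (Submodule.mkQ_surjective _)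
  exact ⟨φ, fun x => LinearMap.congr_fun hφ x⟩

theorem sub_mem_of_mkQ (m : Ideal R) (N : Type w) [AddCommGroup N] [Module Λ N] [Module R N]
    [IsScalarTower R Λ N] (y x : N)
    (h : (mSub R Λ m N).mkQ y = (mSub R Λ m N).mkQ x) : y - x ∈ m • (⊤ : Submodule R N) := by
  rw [← mem_mSub (Λ := Λ), ← Submodule.Quotient.mk_eq_zero, Submodule.Quotient.mk_sub,
    sub_eq_zero]
  exact h

theorem exists_residual_split (m : Ideal R) [hm : m.IsMaximal] [Module.Finite R Λ]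
    (hs : IsSimpleRing (Λ ⧸ (mSub R Λ m Λ : Ideal Λ)))
    (M N : Type w) [AddCommGroup M] [Module Λ M] [Module R M] [IsScalarTower R Λ M]
    [Module.Finite Λ M] [Module.Projective Λ M] [Module.Finite R M] [Module.Flat R M]
    [AddCommGroup N] [Module Λ N] [Module R N] [IsScalarTower R Λ N]
    [Module.Finite Λ N] [Module.Projective Λ N] [Module.Finite R N] [Module.Flat R N]
    (h : rankAtStalk N ⟨m, hm.isPrime⟩ ≤ rankAtStalk M ⟨m, hm.isPrime⟩) :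
    ∃ (φ : M →ₗ[Λ] N) (ψ : N →ₗ[Λ] M), ∀ x : N, φ (ψ x) - x ∈ m • (⊤ : Submodule R N) := by
  haveI := hs
  haveI : IsArtinianRing (Λ ⧸ (mSub R Λ m Λ : Ideal Λ)) := isArtinianRing_quot m
  obtain ⟨S, _, _, hSnt, hcl⟩ := exists_simple_type.{v, w} (mSub R Λ m Λ : Ideal Λ)
  obtain ⟨a, ⟨eX⟩⟩ := hcl (M ⧸ mSub R Λ m M) (isTorsionBySet_quot m M)
  obtain ⟨b, ⟨eY⟩⟩ := hcl (N ⧸ mSub R Λ m N) (isTorsionBySet_quot m N)
  have hba : b ≤ a := by
    refine le_of_length_le (R := R) S _ _ eX eY ?_ ?_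
    · rw [length_quot_eq]; exact ENat.natCast_ne_top _
    · rw [length_quot_eq, length_quot_eq, finrank_fibre_eq_rankAtStalk,
        finrank_fibre_eq_rankAtStalk]
      exact_mod_cast h
  let φb : (M ⧸ mSub R Λ m M) →ₗ[Λ] (N ⧸ mSub R Λ m N) :=
    eY.symm.toLinearMap ∘ₗ restr (Λ := Λ) S a b hba ∘ₗ eX.toLinearMap
  let ψb : (N ⧸ mSub R Λ m N) →ₗ[Λ] (M ⧸ mSub R Λ m M) :=
    eX.symm.toLinearMap ∘ₗ extZero (Λ := Λ) S b a ∘ₗ eY.toLinearMap
  have hφψ : ∀ y, φb (ψb y) = y := by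
    intro y
    simp only [φb, ψb, LinearMap.comp_apply, LinearEquiv.coe_coe, LinearEquiv.apply_symm_apply]
    rw [restr_extZero, LinearEquiv.symm_apply_apply]
  obtain ⟨φ, hφ⟩ := lift_fibre_map m M N φb
  obtain ⟨ψ, hψ⟩ := lift_fibre_map m N M ψb
  refine ⟨φ, ψ, fun x => sub_mem_of_mkQ (Λ := Λ) m N _ _ ?_⟩
  rw [hφ, hψ, hφψ]

theorem exists_residual_iso (m : Ideal R) [hm : m.IsMaximal] [Module.Finite R Λ]
    (hs : IsSimpleRing (Λ ⧸ (mSub R Λ m Λ : Ideal Λ)))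
    (M N : Type w) [AddCommGroup M] [Module Λ M] [Module R M] [IsScalarTower R Λ M]
    [Module.Finite Λ M] [Module.Projective Λ M] [Module.Finite R M] [Module.Flat R M]
    [AddCommGroup N] [Module Λ N] [Module R N] [IsScalarTower R Λ N]
    [Module.Finite Λ N] [Module.Projective Λ N] [Module.Finite R N] [Module.Flat R N]
    (h : rankAtStalk N ⟨m, hm.isPrime⟩ = rankAtStalk M ⟨m, hm.isPrime⟩) :
    ∃ (φ : M →ₗ[Λ] N) (ψ : N →ₗ[Λ] M),
      (∀ x : N, φ (ψ x) - x ∈ m • (⊤ : Submodule R N)) ∧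
      (∀ x : M, ψ (φ x) - x ∈ m • (⊤ : Submodule R M)) := by
  haveI := hs
  haveI : IsArtinianRing (Λ ⧸ (mSub R Λ m Λ : Ideal Λ)) := isArtinianRing_quot m
  obtain ⟨S, _, _, hSnt, hcl⟩ := exists_simple_type.{v, w} (mSub R Λ m Λ : Ideal Λ)
  obtain ⟨a, ⟨eX⟩⟩ := hcl (M ⧸ mSub R Λ m M) (isTorsionBySet_quot m M)
  obtain ⟨b, ⟨eY⟩⟩ := hcl (N ⧸ mSub R Λ m N) (isTorsionBySet_quot m N)
  have hlenM : Module.length R (M ⧸ mSub R Λ m M) =
      (rankAtStalk M ⟨m, hm.isPrime⟩ : ℕ∞) := by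
    rw [length_quot_eq, finrank_fibre_eq_rankAtStalk]
  have hlenN : Module.length R (N ⧸ mSub R Λ m N) =
      (rankAtStalk N ⟨m, hm.isPrime⟩ : ℕ∞) := by
    rw [length_quot_eq, finrank_fibre_eq_rankAtStalk]
  have hba : b ≤ a := by
    refine le_of_length_le (R := R) S _ _ eX eY ?_ ?_
    · rw [hlenM]; exact ENat.natCast_ne_top _
    · rw [hlenM, hlenN, h]
  have hab : a ≤ b := by
    refine le_of_length_le (R := R) S _ _ eY eX ?_ ?_
    · rw [hlenN]; exact ENat.natCast_ne_top _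
    · rw [hlenM, hlenN, h]
  obtain rfl : a = b := le_antisymm hab hba
  let φb : (M ⧸ mSub R Λ m M) →ₗ[Λ] (N ⧸ mSub R Λ m N) :=
    eY.symm.toLinearMap ∘ₗ eX.toLinearMap
  let ψb : (N ⧸ mSub R Λ m N) →ₗ[Λ] (M ⧸ mSub R Λ m M) :=
    eX.symm.toLinearMap ∘ₗ eY.toLinearMap
  have hφψ : ∀ y, φb (ψb y) = y := by
    intro y
    simp only [φb, ψb, LinearMap.comp_apply, LinearEquiv.coe_coe, LinearEquiv.apply_symm_apply,
      LinearEquiv.symm_apply_apply]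
  have hψφ : ∀ y, ψb (φb y) = y := by
    intro y
    simp only [φb, ψb, LinearMap.comp_apply, LinearEquiv.coe_coe, LinearEquiv.apply_symm_apply,
      LinearEquiv.symm_apply_apply]
  obtain ⟨φ, hφ⟩ := lift_fibre_map m M N φb
  obtain ⟨ψ, hψ⟩ := lift_fibre_map m N M ψb
  refine ⟨φ, ψ, fun x => sub_mem_of_mkQ (Λ := Λ) m N _ _ ?_,
    fun x => sub_mem_of_mkQ (Λ := Λ) m M _ _ ?_⟩
  · rw [hφ, hψ, hφψ]
  · rw [hψ, hφ, hψφ]

end

end Groth.Agent.Helper19.LGAz
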